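import Cfsg.Agent.H0.TC
set_option maxRecDepth 100000
namespace H0.TCM231
open H0
noncomputable def r0 : TC.WTr := (.node (.node (.node (.node (.node (.node (.leaf [0] 0 0 false) (.leaf [9, 8, 14, 10] 41 4 false)) (.leaf [6] 5 0 false)) (.node (.node (.leaf [1] 1 1 false) (.leaf [7, 11, 8, 16] 38 4 false)) (.leaf [7] 7 1 false))) (.node (.node (.node (.leaf [6, 10, 2, 6, 3, 15, 7] 71 0 false) (.leaf [1, 7, 16, 9, 6, 1, 0] 69 6 true)) (.leaf [10, 10, 8, 9, 11, 9] 31 2 true)) (.node (.node (.leaf [16, 4, 9, 11, 13] 52 3 true) (.leaf [15] 15 1 false)) (.leaf [7, 13, 10] 33 2 true)))) (.node (.node (.node (.node (.leaf [0] 0 0 false) (.leaf [14, 12, 14, 12, 14] 25 1 true)) (.leaf [4, 0, 8, 4] 64 3 false)) (.node (.node (.leaf [4] 3 0 false) (.leaf [2, 5, 10, 13, 5, 1] 65 5 true)) (.leaf [15, 10, 12, 9, 8] 43 3 true))) (.node (.node (.node (.leaf [13, 3, 8, 6, 4, 1, 12] 68 2 false) (.leaf [14]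 13 0 false)) (.leaf [7] 7 1 false)) (.node (.node (.leaf [10, 15, 8, 2, 14, 0, 2] 69 4 false) (.leaf [4, 9, 11, 13, 4] 52 4 true)) (.leaf [9] 9 1 false))))) (.node (.node (.node (.node (.node (.leaf [1, 6, 2, 2, 0, 2, 0, 1, 0, 1] 60 8 false) (.leaf [12] 12 0 false)) (.leaf [2, 6, 7, 4, 6, 15, 1, 3] 70 7 true)) (.node (.node (.leaf [15, 3, 14, 11, 10] 52 0 false) (.leaf [13] 13 1 false)) (.leaf [9, 9, 9] 30 0 false))) (.node (.node (.node (.leaf [3, 5, 16, 10, 6, 2, 7] 67 7 true) (.leaf [5, 1, 15, 2, 5, 10] 65 2 true)) (.leaf [3, 5, 4] 46 0 true)) (.node (.node (.leaf [3] 3 1 false) (.leaf [9, 15, 13, 9, 14] 42 2 false)) (.leaf [9] 9 1 false)))) (.node (.node (.node (.node (.leaf [1, 1, 1] 58 0 false) (.leaf [13, 15, 12, 16, 14] 28 1 false)) (.leaf [5] 5 1 false)) (.node (.node (.leaf [3] 3 1 false) (.leaf [16] 15 0 false)) (.leaf [5, 9, 5, 12] 51 1 true))) (.node (.node (.node (.leaf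 [7, 1, 3, 5, 16, 10, 6] 67 5 true) (.leaf [8, 9, 9] 33 3 false)) (.leaf [9, 9, 14] 33 0 false)) (.node (.leaf [7, 4, 14, 1, 12, 2, 3] 68 1 true) (.leaf [14, 11, 16] 19 0 false))))))
noncomputable def r1 : TC.WTr := (.node (.node (.node (.node (.node (.node (.leaf [8, 4, 6, 4] 64 0 false) (.leaf [11] 11 0 false)) (.leaf [5] 5 1 false)) (.node (.node (.leaf [1, 0, 1, 0, 2] 59 0 true) (.leaf [16, 10, 15, 13, 10] 42 0 true)) (.leaf [7] 7 1 false))) (.node (.node (.node (.leaf [0, 2, 3, 1, 0] 59 3 true) (.leaf [10, 10, 7] 33 0 true)) (.leaf [10, 3, 7, 10, 3] 54 0 true)) (.node (.node (.leaf [5, 4, 6, 3, 6, 10] 47 0 false) (.leaf [14, 7, 11, 8] 38 3 false)) (.leaf [10, 10, 10] 30 0 true)))) (.node (.node (.node (.node (.leaf [0] 0 0 false) (.leaf [9, 5, 9, 5] 51 0 true)) (.leaf [10, 6, 10, 12] 51 0 false)) (.node (.node (.leaf [4] 3 0 false) (.leaf [13, 10, 14, 16, 10] 42 3 true)) (.leaf [11,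 13, 4, 16, 4] 52 0 true))) (.node (.node (.node (.leaf [8, 1, 5, 9, 15, 6, 4] 67 0 false) (.leaf [13] 13 1 false)) (.leaf [3, 6, 4] 46 3 false)) (.node (.node (.leaf [5, 5] 45 0 false) (.leaf [15] 15 1 false)) (.leaf [2, 5, 13, 7, 6, 1] 66 1 false))))) (.node (.node (.node (.node (.node (.leaf [13, 1, 7, 16, 9, 6, 1] 69 5 true) (.leaf [8, 14, 12, 13, 11, 7] 40 1 false)) (.leaf [4, 8, 3] 46 1 false)) (.node (.node (.leaf [3, 3, 3] 44 0 false) (.leaf [8, 15, 8] 37 0 true)) (.leaf [16, 10, 7, 10, 12] 43 0 false))) (.node (.node (.node (.leaf [1] 1 1 false) (.leaf [4, 8, 12, 16, 7, 3, 12] 57 2 false)) (.leaf [13, 12, 14, 11, 8, 12] 39 2 false)) (.node (.node (.leaf [3] 3 1 false) (.leaf [7, 3, 12, 13, 4, 8, 12] 57 6 false)) (.leaf [9] 9 1 false)))) (.node (.node (.node (.node (.leaf [16, 2, 6, 14, 9, 6] 65 0 false) (.leaf [7, 10, 4, 14, 5, 10] 55 1 true)) (.leaf [16, 7, 16] 37 0 false)) (.node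 (.node (.leaf [4, 4, 4] 44 0 true) (.leaf [16] 15 0 false)) (.leaf [9] 9 1 false))) (.node (.node (.node (.leaf [1] 1 1 false) (.leaf [14, 14] 18 0 true)) (.leaf [6, 4, 1, 12, 2, 13, 3] 68 5 false)) (.node (.leaf [6] 5 0 false) (.leaf [7, 3, 11, 7, 3] 53 0 true))))))
noncomputable def r2 : TC.WTr := (.node (.node (.node (.node (.node (.node (.leaf [3, 5, 3, 7] 64 4 true) (.leaf [4, 8, 11, 4, 8] 53 2 false)) (.leaf [6] 5 0 false)) (.node (.node (.leaf [4] 3 0 false) (.leaf [1, 12, 2, 3, 5, 7, 4] 68 4 true)) (.leaf [7] 7 1 false))) (.node (.node (.node (.leaf [5, 9, 15, 6, 4, 2, 8] 67 2 false) (.leaf [7, 10, 11, 9] 41 2 true)) (.leaf [7, 7] 29 0 false)) (.node (.node (.leaf [9, 11, 13, 4, 16] 52 5 true) (.leaf [2, 6, 14, 9, 6, 1] 65 1 false)) (.leaf [15, 8, 2, 14, 0, 2, 5] 69 5 false)))) (.node (.node (.node (.node (.leaf [0] 0 0 false) (.leaf [6, 10, 6, 10] 51 4 false)) (.leaf [10, 12,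 6, 10] 51 2 false)) (.node (.node (.leaf [4] 3 0 false) (.leaf [15, 15] 17 0 false)) (.leaf [7, 10, 10, 8, 9, 11] 31 1 true))) (.node (.node (.node (.leaf [5, 10, 15, 8, 2, 14, 0] 69 3 false) (.leaf [14] 13 0 false)) (.leaf [1, 5, 9, 15, 6, 4, 2] 67 1 false)) (.node (.node (.leaf [8, 9, 8, 12, 4, 7] 56 6 true) (.leaf [14, 12, 13, 15, 12] 28 5 false)) (.leaf [11] 11 0 false))))) (.node (.node (.node (.node (.node (.leaf [2, 5, 10, 15, 8, 2, 14] 69 2 false) (.leaf [2, 13, 3, 8, 6, 4, 1] 68 1 false)) (.leaf [6, 6] 45 0 true)) (.node (.node (.leaf [5, 3, 7, 0] 64 0 true) (.leaf [16] 15 0 false)) (.leaf [8, 14, 10, 11] 41 0 false))) (.node (.node (.node (.leaf [2] 1 0 false) (.leaf [12, 13, 12, 13, 12] 25 1 false)) (.leaf [13, 10, 10] 33 3 true)) (.node (.node (.leaf [3] 3 1 false) (.leaf [4, 5, 1, 9, 5, 2, 8] 71 1 true)) (.leaf [9] 9 1 false)))) (.node (.node (.node (.node (.leaf [0, 1, 0,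 2, 3] 59 1 true) (.leaf [4, 7, 5, 8, 9, 8] 56 3 true)) (.leaf [8] 7 0 false)) (.node (.node (.leaf [8, 11, 4, 8, 11] 53 0 false) (.leaf [16] 15 0 false)) (.leaf [10] 9 0 false))) (.node (.node (.node (.leaf [6, 14, 9, 6, 1, 16] 65 2 false) (.leaf [9, 6, 1, 16, 2, 6] 65 4 false)) (.leaf [14, 12, 13, 11, 7, 12] 40 2 false)) (.node (.leaf [4, 7, 3] 46 2 true) (.leaf [14, 11, 14, 11, 14] 22 1 true))))))
noncomputable def r3 : TC.WTr := (.node (.node (.node (.node (.node (.node (.leaf [2, 0, 2, 4, 1] 59 1 false) (.leaf [11] 11 0 false)) (.leaf [2, 2, 0, 2, 0, 1, 0, 1, 0, 1] 60 10 false)) (.node (.node (.leaf [6, 4, 8] 46 0 false) (.leaf [12, 14, 12, 14, 12] 25 0 true)) (.leaf [10] 9 0 false))) (.node (.node (.node (.leaf [0, 2, 0, 2, 4] 59 0 false) (.leaf [11, 15, 11] 19 2 true)) (.leaf [10, 11, 9, 13] 41 3 true)) (.node (.node (.leaf [3] 3 1 false) (.leaf [11, 14, 11] 19 3 false)) (.leaf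 [7, 10, 8, 10, 8, 9, 8, 12] 32 1 true)))) (.node (.node (.node (.node (.leaf [2] 1 0 false) (.leaf [16, 14, 12, 13, 15] 28 4 false)) (.leaf [5] 5 1 false)) (.node (.node (.leaf [4] 3 0 false) (.leaf [3, 14, 11, 10, 3] 52 1 false)) (.leaf [5, 4, 5, 3, 6, 3] 47 0 true))) (.node (.node (.node (.leaf [6, 3, 15, 7, 1, 6, 10] 71 3 false) (.leaf [11, 16, 11] 19 1 false)) (.leaf [8, 8] 29 0 true)) (.node (.leaf [3, 6, 3, 9, 5, 4] 47 3 true) (.leaf [8, 16, 14, 7] 38 1 false))))) (.node (.node (.node (.node (.node (.leaf [0] 0 0 false) (.leaf [7, 13, 12, 14, 11, 8] 39 1 false)) (.leaf [8, 3, 12, 7, 10, 7] 56 0 false)) (.node (.node (.leaf [4] 3 0 false) (.leaf [13, 9, 14, 16, 9] 42 4 false)) (.leaf [9, 14, 8] 33 1 false))) (.node (.node (.node (.leaf [0, 2, 4, 1, 0] 59 2 false) (.leaf [14] 13 0 false)) (.leaf [8] 7 0 false)) (.node (.node (.leaf [6] 5 0 false) (.leaf [16, 16] 17 0 true)) (.leaf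 [9] 9 1 false)))) (.node (.node (.node (.node (.leaf [11, 2, 5, 13, 7, 6] 66 0 false) (.leaf [14] 13 0 false)) (.leaf [10, 4, 14, 5, 10, 12] 55 2 true)) (.node (.node (.leaf [7, 5, 8, 9, 8, 12] 56 4 true) (.leaf [16] 15 0 false)) (.leaf [2, 6, 3, 15, 7, 1, 6] 71 2 false))) (.node (.node (.node (.leaf [1] 1 1 false) (.leaf [12, 4, 8, 15, 12, 7, 3] 57 5 true)) (.leaf [7] 7 1 false)) (.node (.leaf [6] 5 0 false) (.leaf [12, 11, 12] 20 0 false))))))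
noncomputable def tS : Tr := (.leaf (nat_lit 0xffe518ef17c06ebb56a9a4ebfb56a8960307ca15aa2e8ffe1b88e4e7f82f7ae2c60a2a8e642afe92aa2bf9c289ffe0e816307d2311f24d0be509021f9c9e96f9f59e665ffdb295e1499a308762982df465a2e7d08f0be038b2d5ffd9b061b3725bf63e229961366ddf7258271265835c1ffd7b72a0d760185a55643a048320c5f958749db76e20ffd786cd6263d690616d509b358e048e53b5a5b07be35ffce57492338cb525d59060e54a5164b20f5c21a66d83ffd3b8c155445fe830185650f4359058d96811f47219affcf8390b8388e83a1a05112a450b9061b3675ea705f0ffe238e93d5064f4e614749424444d18c182b2091327cffe1d755f493e2253a157a5b47d2657cdf160c6382018ffdd24012b4a5596187605d294009c34959231ae889dfffcd21d0b634876338b72347405d70938a31d6666f50fffdee4acd43dddf83843288f73fc5d05c8c565bf754faffc8c450d23388a2292e940592327d999e105e4e81a14ffe4e6710f508d44a6048c12b38c431d417835d683de9ffdf2706248e1f15a9ef8c6659407160df415c171122cffde77f585110566cc558895982d83220541684516c17ffc3d66c5b6143c0ec3a0e42e11038234710dc5c00036ffc2d10c431642d0b43517c341d033174320c4000c02fffc000000000000000000000000000000000001805c16))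
noncomputable def tJ : Tr := (.leaf (nat_lit 0x400607a8086046e5020c09096c659598030000903585574c087063506308070000727642c482f07d608300010550602c06004d603000033031b050200d02000010064904440500d445000032a0000302d10402000405030304404013d4040240000300350540d0026005300911606844407d900002602e00002320070212033003e40027505002520011033e00301300040220020000e00540600005000220e00932003007000001300e10001041000841000110e10000000001001000c02010101100000000c0000bbbbbbbbbbbbbb001))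
noncomputable def tQ : Tr := (.leaf (nat_lit 0x0))
noncomputable def tR : TC.WTr := (.node (.node r0 r1) (.node r2 r3))
def hl : List ℕ := [3, 4, 4, 3, 5, 6, 6, 5, 7, 8, 8, 7, 9, 10, 10, 9, 11, 12, 13, 14, 14, 13, 15, 16, 16, 15]
def B : List (List ℕ) := [[0, 0], [1, 2], [2, 1], [3, 4], [4, 3], [5, 6], [6, 5], [7, 8], [8, 7], [9, 10], [10, 9], [11, 11], [12, 12], [13, 14], [14, 13], [15, 16], [16, 15], [15, 15, 15], [13, 13, 13], [11, 14, 11, 16], [11, 12, 11, 12], [11, 12, 11, 12], [11, 13, 11, 13, 11, 13], [11, 13, 11, 14, 11, 13, 11, 14], [11, 14, 11, 14, 11, 14], [12, 13, 12, 13, 12, 13], [12, 13, 12, 14, 12, 13, 12, 14], [12, 14, 12, 14, 12, 14], [14, 12, 13, 15, 12, 16], [7, 7, 7], [9, 9, 9, 9], [10, 7, 9, 9, 8, 10, 11], [7, 10, 7, 9, 7, 9, 8, 9, 12], [8, 9, 9, 14], [7, 9, 7, 9, 7, 9, 7, 9, 7, 9], [7, 9, 8, 10, 7, 9, 8, 10, 7, 9, 8, 10, 7, 9, 8, 10, 7, 9, 8, 10], [7, 10, 7, 10,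 7, 10, 7, 10, 7, 10], [7, 16, 7, 16], [7, 11, 8, 16, 14], [8, 12, 7, 13, 12, 14, 11], [7, 12, 8, 14, 12, 13, 11], [9, 8, 14, 10, 11], [9, 14, 16, 9, 15, 13], [9, 16, 10, 7, 10, 12], [3, 3, 3, 3], [5, 5, 5], [3, 6, 4, 8], [4, 5, 4, 6, 3, 6, 10], [3, 5, 3, 5, 3, 5, 3, 5, 3, 5, 3, 5, 3, 5], [3, 5, 4, 6, 3, 5, 4, 6, 3, 5, 4, 6, 3, 5, 4, 6, 3, 5, 4, 6], [3, 6, 3, 6, 3, 6, 3, 6, 3, 6], [6, 10, 6, 10, 12], [3, 15, 3, 14, 11, 10], [4, 8, 11, 4, 8, 11], [4, 9, 8, 4, 9, 8], [6, 13, 3, 9, 8, 12, 9], [6, 8, 3, 12, 7, 10, 7], [3, 12, 13, 4, 8, 12, 16, 7], [1, 1, 1, 1], [1, 0, 2, 0, 2, 4], [2, 2, 0, 2, 0, 1, 0, 1, 0, 1, 6], [0, 1, 0, 1, 0, 1, 0, 1, 0, 1, 0, 1, 0, 1, 0, 1, 0, 1, 0, 1, 0, 1], [0, 1, 0, 2, 0, 1, 0, 2, 0, 1, 0, 2, 0, 1, 0, 2, 0, 1, 0, 2, 0, 1, 0, 2], [0, 2, 0, 2, 0, 2, 0, 2, 0, 2, 0, 2, 0, 2, 0, 2, 0, 2, 0, 2, 0, 2], [0, 8, 4, 6, 4], [1, 16, 2, 6, 14, 9, 6], [1, 11, 2, 5, 13, 7, 6], [2,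 8, 1, 5, 9, 15, 6, 4], [1, 12, 2, 13, 3, 8, 6, 4], [2, 14, 0, 2, 5, 10, 15, 8], [1, 5, 4, 2, 16, 5, 3, 8, 5], [1, 6, 10, 2, 6, 3, 15, 7]]
def subs : List (List ℕ) := [[3], [4], [5], [6], [7], [8], [9], [10], [11], [12], [13], [14], [15], [16]]
def ex : List (List ℕ) := []
def inv (x : ℕ) : ℕ := [0, 2, 1, 4, 3, 6, 5, 8, 7, 10, 9, 11, 12, 14, 13, 16, 15].getD x 0
noncomputable def rS : ℕ → ℕ := rowOf tS (nat_lit 7) (nat_lit 127) (nat_lit 180) (nat_lit 1532495540865888858358347027150309183618739122183602175)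
noncomputable def rJ : ℕ → ℕ := rowOf tJ (nat_lit 7) (nat_lit 127) (nat_lit 76) (nat_lit 75557863725914323419135)
noncomputable def C : TC.Cfg where
  S := look rS (nat_lit 10) (nat_lit 1023)
  J := look rJ (nat_lit 4) (nat_lit 15)
  Q := lookQ tQ (nat_lit 7) (nat_lit 1) (nat_lit 1)
  R := tR.get
  hl := fun x => hl.contains x
  n := (nat_lit 22)
  M := (nat_lit 22)
  top := (nat_lit 792)
  nl := (nat_lit 17)
  need := (nat_lit 17)
  nr := (nat_lit 11)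
theorem k0 : TC.chkRange C 0 1 = true := by decide +kernel
theorem rows0 : ∀ c < (0 + 1) * 64, c < C.M → TC.chkRow C c = true :=
  TC.rows_step (TC.rows_zero C) k0
theorem main {G : Type*} [Group G] (g : ℕ → G) (hB : ∀ r ∈ B, ev g r = 1) (H : Subgroup G)
    (hH : ∀ w ∈ subs, ev g w ∈ H) :
    H.relIndex (Subgroup.closure (g '' {x | x < 17})) ≠ 0 ∧
      H.relIndex (Subgroup.closure (g '' {x | x < 17})) ≤ 22 :=
  TC.index_le C B subs ex inv hl tR.hint rfl (by decide +kernel) (by decide +kernel)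
    (TC.rows_done rows0 (by decide +kernel)) g hB H hH
end H0.TCM231
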